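import Cfsg.Agent.H39.HN.Xa.Data

/-!
Steps of a derivation (generated data).
-/

set_option autoImplicit false
set_option maxRecDepth 100000
set_option linter.all false
set_option Elab.async false

namespace H39
namespace HN
namespace Xa

open H93.CosetI

noncomputable section

def st0 : List Step := [(0,[],[]),(0,[],[]),(0,[],[]),(0,[],[]),(0,[],[]),(0,[],[]),(0,[],[]),(0,[],[]),(0,[],[]),(0,[],[]),(0,[],[]),(0,[],[]),(0,[],[]),(0,[],[]),(0,[],[]),(0,[],[]),(0,[],[]),(0,[],[]),(0,[],[]),(0,[],[]),(0,[],[]),(0,[],[]),(0,[],[]),(0,[],[]),(0,[],[]),(0,[],[]),(0,[],[]),(0,[],[]),(0,[],[]),(0,[],[]),(0,[],[]),(0,[],[]),(0,[],[]),(0,[],[]),(0,[],[]),(0,[],[]),(0,[],[]),(0,[],[]),(0,[],[]),(0,[],[]),(0,[],[]),(0,[],[]),(0,[],[]),(0,[],[]),(0,[],[]),(0,[],[]),(0,[],[]),(0,[],[]),(0,[],[]),(0,[],[]),(0,[],[]),(0,[],[]),(0,[],[]),(0,[],[]),(0,[],[]),(0,[],[]),(0,[],[]),(0,[],[]),(0,[],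[]),(0,[],[]),(0,[],[]),(0,[],[]),(0,[],[]),(0,[],[]),(0,[],[]),(0,[],[]),(0,[],[]),(0,[],[]),(0,[],[]),(0,[],[]),(0,[],[]),(0,[],[]),(0,[],[]),(0,[],[]),(0,[],[]),(0,[],[]),(0,[],[]),(0,[],[]),(0,[],[]),(0,[],[]),(0,[],[]),(0,[],[]),(0,[],[]),(0,[],[]),(0,[],[]),(0,[],[]),(0,[],[]),(0,[],[]),(0,[],[]),(0,[],[]),(0,[],[]),(0,[],[]),(0,[],[]),(0,[],[]),(0,[],[]),(0,[],[]),(0,[],[]),(0,[],[]),(10,[166,168,170,172,174,176,178,180,182,184,186,188,190,192,194],[]),(0,[],[]),(0,[],[]),(0,[],[]),(3,[166,198,200,202],[0]),(2,[],[197]),(0,[],[]),(0,[],[]),(0,[],[]),(0,[],[]),(0,[],[]),(0,[],[]),(0,[],[]),(0,[],[]),(0,[],[]),(0,[],[]),(0,[],[]),(0,[],[]),(0,[],[]),(0,[],[]),(0,[],[]),(0,[],[]),(0,[],[]),(0,[],[]),(0,[],[]),(0,[],[]),(0,[],[]),(10,[1,206,224,226,228,230,232,234,236,238,240,242,244,246,248],[]),(2,[2],[251]),(1,[253],[]),(1,[255,250],[]),(1,[255,249],[]),(0,[],[]),(0,[],[]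),(0,[],[]),(0,[],[]),(0,[],[]),(0,[],[]),(0,[],[]),(0,[],[]),(0,[],[]),(0,[],[]),(0,[],[]),(0,[],[]),(0,[],[]),(0,[],[]),(0,[],[]),(5,[1,166,198,260,262,264,266,268,270,272,274,276,278,280,282,284,286,288],[257,258]),(0,[],[]),(0,[],[]),(0,[],[]),(0,[],[]),(0,[],[]),(0,[],[]),(0,[],[]),(0,[],[]),(0,[],[]),(0,[],[]),(0,[],[]),(0,[],[]),(0,[],[]),(0,[],[]),(12,[205,203,201,260,262,292,294,296,298,300,302,304,306,308,310,312,314,316,318],[257,258,247,245]),(0,[],[]),(0,[],[]),(11,[205,203,201,260,262,292,322,324],[257,258,247,245,321,319,317,315,313,311,309,307,305,303,301]),(0,[],[]),(0,[],[]),(0,[],[]),(0,[],[]),(0,[],[]),(0,[],[]),(0,[],[]),(0,[],[]),(0,[],[]),(0,[],[]),(0,[],[]),(0,[],[]),(0,[],[]),(0,[],[]),(8,[205,203,208,210,212,214,338,340,342,344,346,348,350,352,354],[257,258,291,289]),(0,[],[]),(0,[],[]),(13,[205,203,201,260,262,292,322,324,326,300,302,304,358,360],[257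,258,247,245,321,319,317,315,313]),(4,[205,218,220,222,328,330,332,334],[257,258,247]),(2,[8],[]),(2,[12,16],[]),(1,[368],[]),(1,[371,17],[]),(1,[371,18],[]),(2,[22],[]),(2,[26,30],[]),(1,[378],[]),(1,[381,31],[]),(1,[381,32],[]),(2,[36],[]),(2,[40,44],[]),(1,[388],[]),(1,[391,45],[]),(1,[391,46],[]),(2,[50],[]),(2,[54,58],[]),(1,[398],[]),(1,[401,59],[]),(1,[401,60],[]),(2,[64],[]),(2,[68,72],[]),(1,[408],[]),(1,[411,73],[]),(1,[411,74],[]),(2,[78],[]),(2,[82,86],[]),(1,[418],[]),(1,[421,87],[]),(1,[421,88],[]),(2,[92],[]),(2,[96,100],[]),(1,[428],[]),(1,[431,101],[]),(1,[431,102],[]),(2,[110,114],[]),(1,[436],[]),(1,[439,115],[]),(1,[439,116],[]),(2,[124,128],[]),(1,[444],[]),(1,[447,129],[]),(1,[447,130],[]),(2,[138,142],[]),(1,[452],[]),(1,[455,143],[]),(1,[455,144],[]),(2,[152,156],[]),(1,[460],[]),(1,[463,157],[]),(1,[463,158],[]),(2,[260],[]),(2,[226],[]),(2,[246],[]),(2,[292],[]),(2,[280],[]),(2,[288],[]),(2,[300],[]),(2,[304],[]),(2,[334],[]),(0,[],[]),(0,[],[]),(0,[],[]),(3,[4,6,490],[258,291]),(0,[],[]),(0,[],[]),(0,[],[])]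

theorem ok0 : data.stepsOK st0 0 = true := by decide +kernel

def st1 : List Step := [(0,[],[]),(0,[],[]),(0,[],[]),(0,[],[]),(0,[],[]),(0,[],[]),(0,[],[]),(3,[282,284,286,357,510],[]),(0,[],[]),(0,[],[]),(0,[],[]),(0,[],[]),(0,[],[]),(0,[],[]),(0,[],[]),(0,[],[]),(0,[],[]),(10,[490,494,496,500,502,516,518,520,522,524,526,528,530,532],[367]),(0,[],[]),(0,[],[]),(0,[],[]),(0,[],[]),(0,[],[]),(0,[],[]),(0,[],[]),(0,[],[]),(0,[],[]),(0,[],[]),(0,[],[]),(0,[],[]),(5,[490,492,290,472,365,336,536,538,540,542,544,546,548,550,552,554,556,558],[367,535]),(0,[],[]),(0,[],[]),(0,[],[]),(0,[],[]),(0,[],[]),(0,[],[]),(0,[],[]),(0,[],[]),(0,[],[]),(0,[],[]),(0,[],[]),(0,[],[]),(12,[7,5,258,472,365,484,512,562,564,566,568,570,572,574,576,578,580,582,584],[367,535,533,531]),(0,[],[]),(0,[],[]),(0,[],[]),(0,[],[]),(0,[],[]),(9,[7,216,486,488,588,590,592,594,596],[367,535,533,531,587,585]),(0,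[],[]),(0,[],[]),(0,[],[]),(0,[],[]),(0,[],[]),(0,[],[]),(0,[],[]),(0,[],[]),(8,[7,5,256,1,206,224,226,600,602,604,606,608,610,612,614],[367,535,561,559]),(4,[7,216,486,488,588,590,592,594],[367,535,533]),(3,[10,374,20],[535,561]),(0,[],[]),(0,[],[]),(0,[],[]),(0,[],[]),(0,[],[]),(0,[],[]),(5,[10,374,20,22,24,384,622,624,626,628,630,632],[9,7,5,3,205,203,201,469]),(0,[],[]),(0,[],[]),(0,[],[]),(0,[],[]),(0,[],[]),(0,[],[]),(0,[],[]),(0,[],[]),(8,[535,561,638,640,642,644,646,648,650],[9,7,5,3,1,197,224,471,600,602]),(2,[622],[]),(2,[532,636],[]),(1,[656],[]),(1,[659,637],[]),(2,[550],[]),(2,[558,638],[]),(1,[664],[]),(1,[667,639],[]),(1,[667,640],[]),(1,[616,670],[]),(1,[673],[]),(1,[675,642],[]),(2,[582],[]),(2,[604],[653]),(1,[681],[]),(1,[683,651],[]),(1,[607,684],[]),(1,[687],[]),(1,[689,649],[]),(1,[609,690],[]),(1,[693],[]),(1,[695,647],[]),(2,[610],[696]),(1,[699],[]),(1,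[701,697],[]),(1,[701,645],[]),(1,[613,704],[]),(1,[707],[]),(1,[709,677],[]),(2,[630],[]),(0,[],[]),(0,[],[]),(0,[],[]),(0,[],[]),(3,[552,554,556,617,720],[]),(0,[],[]),(0,[],[]),(0,[],[]),(0,[],[]),(0,[],[]),(0,[],[]),(0,[],[]),(0,[],[]),(0,[],[]),(0,[],[]),(0,[],[]),(10,[620,669,617,711,613,702,730,732,734,736,738,740,742,744],[377]),(0,[],[]),(0,[],[]),(0,[],[]),(0,[],[]),(0,[],[]),(0,[],[]),(0,[],[]),(5,[620,560,534,366,490,492,478,357,510,514,476,748,750,752,754,756,758,760],[377,747]),(0,[],[]),(0,[],[]),(0,[],[]),(0,[],[]),(0,[],[]),(0,[],[]),(0,[],[]),(0,[],[]),(0,[],[]),(0,[],[]),(0,[],[]),(12,[21,375,11,366,490,494,496,498,764,766,768,770,772,774,776,778,780,782,784],[377,747,745,743]),(0,[],[]),(0,[],[]),(0,[],[]),(0,[],[]),(0,[],[]),(9,[21,714,716,718,788,790,792,794,796],[377,747,745,743,787,785]),(0,[],[]),(0,[],[]),(0,[],[]),(0,[],[]),(0,[],[]),(0,[],[]),(0,[],[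]),(0,[],[]),(8,[21,375,12,14,504,506,508,800,802,804,806,808,810,812,814],[377,747,763,761]),(4,[21,714,716,718,788,790,792,794],[377,747,745]),(3,[24,384,34],[747,763]),(2,[724],[]),(2,[728],[]),(2,[744],[]),(2,[752],[]),(2,[760],[]),(2,[782],[]),(2,[810],[]),(2,[814],[]),(0,[],[]),(0,[],[]),(0,[],[]),(0,[],[]),(3,[754,756,758,817,844],[]),(0,[],[]),(0,[],[]),(0,[],[]),(0,[],[]),(0,[],[]),(0,[],[]),(0,[],[]),(0,[],[]),(0,[],[]),(0,[],[]),(0,[],[]),(0,[],[]),(0,[],[]),(0,[],[]),(0,[],[]),(0,[],[]),(5,[34,820,762,826,819,796,856,858,860,862,864,866,868,870,872,874,876,878],[655,848]),(3,[624,626,628],[848,881]),(0,[],[]),(0,[],[]),(0,[],[]),(0,[],[]),(0,[],[]),(0,[],[]),(0,[],[]),(0,[],[]),(10,[820,830,817,836,813,834,884,886,888,890,892,894,896,898],[387]),(0,[],[]),(0,[],[]),(0,[],[]),(0,[],[]),(0,[],[]),(0,[],[]),(0,[],[]),(5,[820,762,746,376,620,560,661,619,596,598,678,902,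904,906,908,910,912,914],[387,901]),(0,[],[]),(0,[],[]),(0,[],[]),(0,[],[]),(0,[],[]),(0,[],[]),(0,[],[]),(0,[],[]),(0,[],[]),(12,[35,385,25,376,620,669,617,720,722,662,918,920,922,924,926,928,930,932,934],[387,901,899,897]),(0,[],[]),(0,[],[]),(0,[],[]),(0,[],[]),(0,[],[]),(9,[35,622,624,842,938,940,942,944,946],[387,901,899,897,937,935]),(0,[],[]),(0,[],[]),(0,[],[]),(0,[],[]),(0,[],[]),(0,[],[]),(0,[],[]),(0,[],[]),(8,[35,385,26,28,724,726,728,950,952,954,956,958,960,962,964],[387,901,917,915]),(4,[35,622,624,842,938,940,942,944],[387,901,899]),(3,[38,394,48],[901,917]),(0,[],[]),(0,[],[]),(0,[],[]),(0,[],[]),(0,[],[]),(0,[],[]),(0,[],[]),(0,[],[]),(0,[],[]),(0,[],[]),(0,[],[]),(12,[901,917,971,50,52,54,56,976,978,980,982,984,986,988,990,992],[37,35,655,848,881,883,713]),(0,[],[]),(0,[],[])]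

theorem ok1 : data.stepsOK st1 250 = true := by decide +kernel

def st2 : List Step := [(11,[901,917,971,50,52,54,996,998],[37,35,655,848,881,883,713,995,993,991,989,987,985,983,981]),(0,[],[]),(0,[],[]),(0,[],[]),(0,[],[]),(0,[],[]),(0,[],[]),(0,[],[]),(0,[],[]),(8,[901,917,1004,1006,1008,1010,1012,1014,1016],[37,35,385,382,28,823,726,825,950,952]),(0,[],[]),(0,[],[]),(13,[901,917,971,50,52,54,996,998,1000,980,982,984,1020,1022],[37,35,655,848,881,883,713,995,993]),(3,[262,264],[635,633,995]),(2,[898,1002],[]),(1,[1028],[]),(1,[1031,1003],[]),(2,[906],[]),(2,[914,1004],[]),(1,[1036],[]),(1,[1039,1005],[]),(1,[1039,1006],[]),(1,[966,1042],[]),(1,[1045],[]),(1,[1047,1008],[]),(2,[932],[]),(2,[954],[1019]),(1,[1053],[]),(1,[1055,1017],[]),(1,[957,1056],[]),(1,[1059],[]),(1,[1061,1015],[]),(1,[959,1062],[]),(1,[1065],[]),(1,[1067,1013],[]),(2,[960],[1068]),(1,[1071],[]),(1,[1073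,1069],[]),(1,[1073,1011],[]),(1,[963,1076],[]),(1,[1079],[]),(1,[1081,1049],[]),(2,[980],[]),(2,[984],[]),(2,[992],[]),(0,[],[]),(0,[],[]),(3,[908,910,912,967,1092],[]),(0,[],[]),(0,[],[]),(0,[],[]),(0,[],[]),(0,[],[]),(0,[],[]),(0,[],[]),(0,[],[]),(0,[],[]),(0,[],[]),(0,[],[]),(10,[970,1041,967,1083,963,1074,1102,1104,1106,1108,1110,1112,1114,1116],[397]),(0,[],[]),(0,[],[]),(0,[],[]),(0,[],[]),(0,[],[]),(0,[],[]),(0,[],[]),(5,[970,916,900,386,820,762,826,819,796,798,832,1120,1122,1124,1126,1128,1130,1132],[397,1119]),(0,[],[]),(0,[],[]),(0,[],[]),(0,[],[]),(0,[],[]),(0,[],[]),(0,[],[]),(0,[],[]),(0,[],[]),(12,[49,395,39,386,820,830,817,844,846,828,1136,1138,1140,1142,1144,1146,1148,1150,1152],[397,1119,1117,1115]),(0,[],[]),(0,[],[]),(0,[],[]),(0,[],[]),(0,[],[]),(9,[49,838,840,1090,1156,1158,1160,1162,1164],[397,1119,1117,1115,1155,1153]),(0,[],[]),(0,[],[]),(0,[],[]),(0,[]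,[]),(0,[],[]),(0,[],[]),(0,[],[]),(0,[],[]),(8,[49,395,40,42,850,852,854,1168,1170,1172,1174,1176,1178,1180,1182],[397,1119,1135,1133]),(4,[49,838,840,1090,1156,1158,1160,1162],[397,1119,1117]),(3,[52,404,62],[1119,1135]),(2,[1096],[]),(2,[1100],[]),(2,[1116],[]),(2,[1132],[]),(2,[1150],[]),(2,[1178],[]),(2,[1182],[]),(0,[],[]),(0,[],[]),(0,[],[]),(0,[],[]),(0,[],[]),(0,[],[]),(0,[],[]),(0,[],[]),(0,[],[]),(0,[],[]),(0,[],[]),(0,[],[]),(0,[],[]),(0,[],[]),(0,[],[]),(10,[1188,1196,1185,1202,1181,1200,1218,1220,1222,1224,1226,1228,1230,1232],[407]),(0,[],[]),(0,[],[]),(0,[],[]),(0,[],[]),(0,[],[]),(0,[],[]),(0,[],[]),(5,[1188,1134,1118,396,970,916,1033,969,946,948,1050,1236,1238,1240,1242,1244,1246,1248],[407,1235]),(0,[],[]),(0,[],[]),(0,[],[]),(0,[],[]),(0,[],[]),(0,[],[]),(0,[],[]),(0,[],[]),(0,[],[]),(12,[63,405,53,396,970,1041,967,1092,1094,1034,1252,1254,1256,1258,1260,126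2,1264,1266,1268],[407,1235,1233,1231]),(0,[],[]),(0,[],[]),(0,[],[]),(0,[],[]),(0,[],[]),(9,[63,972,974,1208,1272,1274,1276,1278,1280],[407,1235,1233,1231,1271,1269]),(0,[],[]),(0,[],[]),(0,[],[]),(0,[],[]),(0,[],[]),(0,[],[]),(0,[],[]),(0,[],[]),(8,[63,405,54,56,1096,1098,1100,1284,1286,1288,1290,1292,1294,1296,1298],[407,1235,1251,1249]),(4,[63,972,974,1208,1272,1274,1276,1278],[407,1235,1233]),(3,[66,414,76],[1235,1251]),(0,[],[]),(0,[],[]),(0,[],[]),(0,[],[]),(0,[],[]),(0,[],[]),(5,[66,414,76,78,80,424,1306,1308,1310,1312,1314,1316],[65,63,405,402,996,998,1000,1085]),(0,[],[]),(0,[],[]),(0,[],[]),(0,[],[]),(0,[],[]),(0,[],[]),(0,[],[]),(0,[],[]),(8,[1235,1251,1322,1324,1326,1328,1330,1332,1334],[65,63,405,402,56,1191,1098,1193,1284,1286]),(2,[1306],[]),(2,[1232,1320],[]),(1,[1340],[]),(1,[1343,1321],[]),(2,[1248,1322],[]),(1,[1346],[]),(1,[1349,1323],[]),(1,[1349,1324],[])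,(1,[1300,1352],[]),(1,[1355],[]),(1,[1357,1326],[]),(2,[1266],[]),(2,[1288],[1337]),(1,[1363],[]),(1,[1365,1335],[]),(1,[1291,1366],[]),(1,[1369],[]),(1,[1371,1333],[]),(1,[1293,1372],[]),(1,[1375],[]),(1,[1377,1331],[]),(2,[1294],[1378]),(1,[1381],[]),(1,[1383,1379],[]),(1,[1383,1329],[]),(1,[1297,1386],[]),(1,[1389],[]),(1,[1391,1359],[]),(2,[1314],[]),(0,[],[]),(0,[],[]),(0,[],[]),(0,[],[]),(0,[],[]),(0,[],[]),(0,[],[]),(0,[],[]),(0,[],[]),(10,[1304,1351,1301,1393,1297,1384,1398,1400,1402,1404,1406,1408,1410,1412],[417]),(0,[],[]),(0,[],[]),(0,[],[]),(0,[],[]),(0,[],[]),(0,[],[]),(0,[],[]),(5,[1304,1250,1234,406,1188,1134,1194,1187,1164,1166,1198,1416,1418,1420,1422,1424,1426,1428],[417,1415]),(0,[],[]),(0,[],[]),(0,[],[]),(0,[],[]),(0,[],[]),(0,[],[]),(0,[],[]),(0,[],[]),(0,[],[]),(0,[],[]),(0,[],[]),(0,[],[]),(0,[],[]),(8,[77,415,68,70,1212,1214,1216,1442,1444,1446,1448,1450,1452,1454,1456],[417,1415,1431,1429]),(4,[77,1204,1206,1396,1432,1434,1436,1438],[417,1415,1413]),(3,[80,424,90],[1415,1431]),(2,[1412],[]),(2,[1428],[]),(2,[1452],[]),(2,[1456],[]),(0,[],[]),(0,[],[]),(0,[],[]),(0,[],[]),(0,[],[]),(0,[],[]),(0,[],[]),(0,[],[]),(0,[],[]),(0,[],[]),(0,[],[]),(0,[],[]),(0,[],[]),(5,[90,1462,1430,1464,1461,1440,1474,1476,1478,1480,1482,1484,1486,1488,1490,1492,1494,1496],[1339,1472])]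

theorem ok2 : data.stepsOK st2 500 = true := by decide +kernel

def st3 : List Step := [(3,[1308,1310,1312],[1472,1499]),(0,[],[]),(0,[],[]),(0,[],[]),(0,[],[]),(0,[],[]),(0,[],[]),(0,[],[]),(0,[],[]),(10,[1462,1466,1459,1470,1455,1468,1502,1504,1506,1508,1510,1512,1514,1516],[427]),(0,[],[]),(0,[],[]),(0,[],[]),(0,[],[]),(0,[],[]),(0,[],[]),(0,[],[]),(5,[1462,1430,1414,416,1304,1250,1345,1303,1280,1282,1360,1520,1522,1524,1526,1528,1530,1532],[427,1519]),(3,[94,434,104],[1519,1535]),(0,[],[]),(0,[],[]),(0,[],[]),(0,[],[]),(0,[],[]),(0,[],[]),(0,[],[]),(0,[],[]),(0,[],[]),(12,[1519,1535,1537,106,108,110,112,1538,1540,1542,1544,1546,1548,1550,1552,1554],[93,91,1339,1472,1499,1501,1395]),(0,[],[]),(0,[],[]),(11,[1519,1535,1537,106,108,110,1558,1560],[93,91,1339,1472,1499,1501,1395,1557,1555,1553,1551,1549,1547,1545,1543]),(0,[],[]),(0,[],[]),(13,[1519,1535,1537,106,108,110,1558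,1560,1562,1542,1544,1546,1564,1566],[93,91,1339,1472,1499,1501,1395,1557,1555]),(3,[982,1210],[1319,1317,1557]),(2,[1542],[]),(2,[1546],[]),(2,[1554],[]),(0,[],[]),(5,[327,325,323,474,264,1026,1088,1025,1023,1021,1086,1210,1570,1576,1569,1567,1565,1574,1578],[481]),(0,[],[]),(0,[],[]),(0,[],[]),(0,[],[]),(0,[],[]),(0,[],[]),(5,[122,450,132,134,136,458,1582,1584,1586,1588,1590,1592],[121,119,443,440,1558,1560,1562,1573]),(2,[1582],[]),(3,[302],[1581,1579,1545,1595,1593]),(1,[1599],[]),(1,[1601,1591],[]),(1,[482,1602],[]),(1,[1605],[]),(1,[1607,1589],[]),(1,[359,1608],[]),(1,[1611],[]),(1,[1613,1587],[]),(1,[361,1614],[]),(1,[1617],[]),(1,[1619,1585],[]),(1,[363,1620],[]),(1,[1623],[]),(1,[1625,1596],[]),(1,[313,1626],[]),(1,[1628],[]),(1,[1631,314],[]),(1,[147,1632],[]),(1,[1635],[]),(1,[1637,316],[]),(1,[149,1638],[]),(1,[1641],[]),(1,[1643,318],[]),(1,[151,1644],[]),(1,[1647],[]),(1,[1649,320],[]),(1,[467,1650],[]),(1,[1653],[]),(1,[1655,244],[]),(1,[161,1656],[]),(1,[1659],[]),(1,[1661,246],[]),(1,[163,1662],[]),(1,[1665],[]),(1,[1667,259],[]),(1,[165,1668],[]),(1,[1670],[]),(1,[1673,165],[])]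

theorem ok3 : data.stepsOK st3 750 = true := by decide +kernel

end

end Xa
end HN
end H39
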